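import Groth.Agent.CplHomLib.Descend
import Groth.Agent.QIsoLib.Main
import Mathlib.RingTheory.TensorProduct.Free

set_option autoImplicit false

/-!
The coefficients of homomorphisms from finite groups of multiplicative type defined over an extension with trivial
residue extension of a henselian local ring lie in that ring.
-/

noncomputable section

universe u w

open scoped TensorProduct
open Groth.Agent.TorusField Groth.Agent.DiagHopf

namespace Groth.Agent.CplHom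

variable {R : Type u} [CommRing R] {B : Type u} [CommRing B] [HopfAlgebra R B] [Module.Flat R B]
  {M : Type u} [AddCommGroup M] {C : Type u} [CommRing C] [HopfAlgebra R C]

/-- Maps respecting the structure descend along injective maps of scalars. -/
theorem respD_of_push {S S' : Type u} [CommRing S] [Algebra R S] [CommRing S'] [Algebra R S'] (f : S →ₐ[R] S')
    (hf : Function.Injective f) {ψ : C →ₐ[R] S ⊗[R] B} (h : RespD ((push f).comp ψ)) : RespD ψ := by
  have h2 : Function.Injective (push₂ (A := B) f) :=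
    Module.Flat.rTensor_preserves_injective_linearMap (M := B ⊗[R] B) f.toLinearMap hf
  refine ⟨fun c => h2 ?_, fun c => hf ?_⟩
  · rw [push_D]
    refine (h.1 c).trans ?_
    refine DFunLike.congr_fun (?_ : pairMap ((push f).comp ψ) = (push₂ f).comp (pairMap ψ)) _
    refine Algebra.TensorProduct.ext' fun p q => ?_
    simp [pairMap_tmul, map_mul, push_J₁, push_J₂]
  · rw [push_ev1, AlgHom.commutes]
    exact h.2 c

theorem push_comp' {A : Type u} [CommRing A] [Bialgebra R A] {S S' S'' : Type u} [CommRing S] [Algebra R S]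
    [CommRing S'] [Algebra R S'] [CommRing S''] [Algebra R S''] (f : S →ₐ[R] S') (g : S' →ₐ[R] S'') (x : S ⊗[R] A) :
    push (g.comp f) x = push g (push f x) := by
  induction x using TensorProduct.induction_on with
  | zero => simp
  | add a b ha hb => simp only [map_add, ha, hb]
  | tmul s a => simp [push]

variable {T T' : Type u} [CommRing T] [HenselianLocalRing T] [IsNoetherianRing T] [CommRing T'] [IsLocalRing T']
  [Algebra R T] [Algebra R T'] [Algebra T T'] [IsScalarTower R T T']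

theorem repr_mem_range [IsLocalHom (algebraMap T T')]
    (hres : ∀ x : T', ∃ t : T, x - algebraMap T T' t ∈ IsLocalRing.maximalIdeal T')
    [Algebra.FiniteType R C] {L : Type u} [Field L] [Algebra R L] {N : Type u} [AddCommGroup N]
    (EL : Split R C N L) (jL : (T ⧸ IsLocalRing.maximalIdeal T) →ₐ[R] L) (E : Split R B M T) (E' : Split R B M T')
    (hE' : ∀ a, E'.e a = push (IsScalarTower.toAlgHom R T T') (E.e a))
    (ψ : C →ₐ[R] T' ⊗[R] B) (hψ : RespD ψ) (c : C) (a : M) :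
    E'.e.repr (ψ c) a ∈ (algebraMap T T').range := by
  classical
  obtain ⟨G, hG⟩ := (Algebra.FiniteType.out : (⊤ : Subalgebra R C).FG)
  let s : Set T' := ↑(G.biUnion fun g => (E'.e.repr (ψ g)).support.image fun m => E'.e.repr (ψ g) m)
  let Q := Algebra.adjoin T s
  let ιQ : Q →ₐ[R] T' := (Q.val).restrictScalars R
  have hιQ : Function.Injective ιQ := Subtype.val_injective
  obtain ⟨EQ, hEQ⟩ := exists_split_push E (IsScalarTower.toAlgHom R T Q)
  have hE'Q : ∀ b, E'.e b = push ιQ (EQ.e b) := fun b => by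
    rw [hEQ, ← push_comp', hE']
    rfl
  have hcoord : ∀ g ∈ G, ∀ b, E'.e.repr (ψ g) b ∈ Q := fun g hg b => by
    by_cases hb : E'.e.repr (ψ g) b = 0
    · rw [hb]; exact zero_mem _
    · exact Algebra.subset_adjoin (Finset.mem_coe.2 (Finset.mem_biUnion.2
        ⟨g, hg, Finset.mem_image.2 ⟨b, Finsupp.mem_support_iff.2 hb, rfl⟩⟩))
  have hinjQ : Function.Injective (push (A := B) ιQ) := fun x y hxy => EQ.e.ext_elem fun b => hιQ <| by
    rw [← repr_push EQ E' ιQ hE'Q, ← repr_push EQ E' ιQ hE'Q, hxy]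
  have hrange : ∀ d, ψ d ∈ (push (A := B) ιQ).range := by
    intro d
    have hd : d ∈ Algebra.adjoin R (G : Set C) := hG ▸ Algebra.mem_top
    refine (Algebra.adjoin_le (fun g hg => ?_) : _ ≤ (push (A := B) ιQ).range.comap ψ) hd
    refine ⟨∑ b ∈ (E'.e.repr (ψ g)).support, (⟨_, hcoord g hg b⟩ : Q) • EQ.e b, ?_⟩
    show push ιQ _ = ψ g
    conv_rhs => rw [← E'.e.linearCombination_repr (ψ g), Finsupp.linearCombination_apply, Finsupp.sum]
    rw [map_sum]
    exact Finset.sum_congr rfl fun b _ => by rw [push_smul, ← hE'Q]; rfl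
  let ψQ : C →ₐ[R] Q ⊗[R] B :=
    (AlgEquiv.ofInjective (push (A := B) ιQ) hinjQ).symm.toAlgHom.comp (ψ.codRestrict _ hrange)
  have hψQ : (push ιQ).comp ψQ = ψ := AlgHom.ext fun d => by
    exact congrArg Subtype.val ((AlgEquiv.ofInjective (push (A := B) ιQ) hinjQ).apply_symm_apply
      (ψ.codRestrict _ hrange d))
  have hψQD : RespD ψQ := respD_of_push ιQ hιQ (hψQ.symm ▸ hψ)
  -- the infinitesimal neighbourhood of the closed point
  let mT := IsLocalRing.maximalIdeal T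
  let I : Ideal Q := mT.map (algebraMap T Q) ⊔ (IsLocalRing.maximalIdeal T').comap Q.val ^ 2
  letI : Field (T ⧸ mT) := Ideal.Quotient.field mT
  have hkill : ∀ t ∈ mT, algebraMap T (Q ⧸ I) t = 0 := fun t ht =>
    Ideal.Quotient.eq_zero_iff_mem.2 (Ideal.mem_sup_left (Ideal.mem_map_of_mem _ ht))
  letI : Algebra (T ⧸ mT) (Q ⧸ I) := (Ideal.Quotient.lift mT (algebraMap T (Q ⧸ I)) hkill).toAlgebra
  haveI : IsScalarTower R (T ⧸ mT) (Q ⧸ I) := IsScalarTower.of_algebraMap_eq fun r => by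
    show algebraMap R (Q ⧸ I) r = Ideal.Quotient.lift mT (algebraMap T (Q ⧸ I)) hkill
      (algebraMap R (T ⧸ mT) r)
    rw [IsScalarTower.algebraMap_apply R T (T ⧸ mT)]
    show _ = algebraMap T (Q ⧸ I) (algebraMap R T r)
    rw [← IsScalarTower.algebraMap_apply R T (Q ⧸ I)]
  letI : Algebra (T ⧸ mT) L := jL.toRingHom.toAlgebra
  haveI : IsScalarTower R (T ⧸ mT) L := IsScalarTower.of_algebraMap_eq fun r => (jL.commutes r).symm
  -- the residual map
  have hmT : mT.map (algebraMap T T') ≤ IsLocalRing.maximalIdeal T' :=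
    ((IsLocalRing.local_hom_TFAE (algebraMap T T')).out 0 2).mp ‹_›
  let kmap : (T ⧸ mT) →+* (T' ⧸ IsLocalRing.maximalIdeal T') :=
    Ideal.quotientMap _ (algebraMap T T') (Ideal.map_le_iff_le_comap.1 hmT)
  have hkmap : Function.Bijective kmap := ⟨RingHom.injective kmap, fun z => by
    obtain ⟨z, rfl⟩ := Ideal.Quotient.mk_surjective z
    obtain ⟨t, ht⟩ := hres z
    exact ⟨Ideal.Quotient.mk mT t, (Ideal.Quotient.eq.2 ht).symm⟩⟩
  let ek := RingEquiv.ofBijective kmap hkmap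
  let ρ₀ : Q →+* (T ⧸ mT) :=
    ek.symm.toRingHom.comp ((Ideal.Quotient.mk (IsLocalRing.maximalIdeal T')).comp Q.val.toRingHom)
  have hρ₀t : ∀ t, ρ₀ (algebraMap T Q t) = Ideal.Quotient.mk mT t := fun t => ek.injective (by
    show ek (ek.symm _) = _
    rw [RingEquiv.apply_symm_apply]
    rfl)
  have hρ₀I : ∀ x ∈ I, ρ₀ x = 0 := by
    intro x hx
    refine (sup_le (Ideal.map_le_iff_le_comap.2 fun t ht => ?_) ?_ : I ≤ RingHom.ker ρ₀) hx
    · rw [Ideal.mem_comap, RingHom.mem_ker, hρ₀t, Ideal.Quotient.eq_zero_iff_mem]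
      exact ht
    · refine (Ideal.pow_le_self two_ne_zero).trans fun y hy => ?_
      rw [RingHom.mem_ker]
      show ek.symm (Ideal.Quotient.mk _ (Q.val y)) = 0
      rw [show Ideal.Quotient.mk (IsLocalRing.maximalIdeal T') (Q.val y) = 0 from
        Ideal.Quotient.eq_zero_iff_mem.2 hy, map_zero]
  let ρ : Q ⧸ I →ₐ[T ⧸ mT] (T ⧸ mT) :=
    { Ideal.Quotient.lift I ρ₀ hρ₀I with
      commutes' := fun z => by
        obtain ⟨t, rfl⟩ := Ideal.Quotient.mk_surjective z
        exact hρ₀t t }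
  have hρsq : ∀ y z : Q ⧸ I, ρ y = 0 → ρ z = 0 → y * z = 0 := by
    intro y z hy hz
    obtain ⟨y, rfl⟩ := Ideal.Quotient.mk_surjective y
    obtain ⟨z, rfl⟩ := Ideal.Quotient.mk_surjective z
    have key : ∀ x : Q, ρ₀ x = 0 → x ∈ (IsLocalRing.maximalIdeal T').comap Q.val := fun x hx => by
      have h : Ideal.Quotient.mk (IsLocalRing.maximalIdeal T') (Q.val x) = 0 :=
        ek.symm.injective (hx.trans (map_zero ek.symm).symm)
      exact Ideal.mem_comap.2 (Ideal.Quotient.eq_zero_iff_mem.1 h)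
    rw [← map_mul, Ideal.Quotient.eq_zero_iff_mem]
    refine Ideal.mem_sup_right ?_
    rw [pow_two]
    exact Ideal.mul_mem_mul (key y hy) (key z hz)
  -- the deformation ring with a splitting of the target
  letI : CommRing (L ⊗[T ⧸ mT] (Q ⧸ I)) := Algebra.TensorProduct.instCommRing
  let inL : L →ₐ[R] (L ⊗[T ⧸ mT] (Q ⧸ I)) :=
    (Algebra.TensorProduct.includeLeft : L →ₐ[T ⧸ mT] L ⊗[T ⧸ mT] (Q ⧸ I)).restrictScalars R
  let inQ : Q →ₐ[R] (L ⊗[T ⧸ mT] (Q ⧸ I)) :=
    ((Algebra.TensorProduct.includeRight : (Q ⧸ I) →ₐ[T ⧸ mT] L ⊗[T ⧸ mT] (Q ⧸ I)).restrictScalars R).comp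
      (Ideal.Quotient.mkₐ R I)
  let μ₁ : (L ⊗[T ⧸ mT] (Q ⧸ I)) →ₐ[T ⧸ mT] L := Algebra.TensorProduct.lift (AlgHom.id _ L) ((Algebra.ofId _ L).comp ρ)
    fun _ _ => Commute.all _ _
  let μ : (L ⊗[T ⧸ mT] (Q ⧸ I)) →ₐ[R] L := μ₁.restrictScalars R
  have hμL : μ.comp inL = AlgHom.id R L := AlgHom.ext fun x => by
    show μ₁ (x ⊗ₜ[T ⧸ mT] 1) = x
    rw [Algebra.TensorProduct.lift_tmul, map_one, mul_one]
    rfl
  have hμnil : ∀ x, μ x = 0 → IsNilpotent x := by
    let V : Ideal (L ⊗[T ⧸ mT] (Q ⧸ I)) := (RingHom.ker ρ).map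
      (Algebra.TensorProduct.includeRight : (Q ⧸ I) →ₐ[T ⧸ mT] L ⊗[T ⧸ mT] (Q ⧸ I))
    have hV : ∀ x : (L ⊗[T ⧸ mT] (Q ⧸ I)), x - μ₁ x ⊗ₜ[T ⧸ mT] 1 ∈ V := by
      intro x
      induction x using TensorProduct.induction_on with
      | zero => simp
      | add p q hp hq => rw [map_add, TensorProduct.add_tmul, add_sub_add_comm]; exact add_mem hp hq
      | tmul l y =>
        have hy : y - algebraMap _ (Q ⧸ I) (ρ y) ∈ RingHom.ker ρ := by
          rw [RingHom.mem_ker, map_sub, AlgHom.commutes]; exact sub_self _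
        have e : l ⊗ₜ[T ⧸ mT] y - μ₁ (l ⊗ₜ y) ⊗ₜ[T ⧸ mT] (1 : Q ⧸ I) =
            (l ⊗ₜ[T ⧸ mT] (1 : Q ⧸ I)) * ((1 : L) ⊗ₜ[T ⧸ mT] (y - algebraMap _ (Q ⧸ I) (ρ y))) := by
          rw [Algebra.TensorProduct.tmul_mul_tmul, mul_one, one_mul, TensorProduct.tmul_sub]
          congr 1
          rw [show μ₁ (l ⊗ₜ[T ⧸ mT] y) = l * algebraMap (T ⧸ mT) L (ρ y) from Algebra.TensorProduct.lift_tmul _ _ _ _ _,
            Algebra.algebraMap_eq_smul_one (R := T ⧸ mT) (A := Q ⧸ I), TensorProduct.tmul_smul,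
            TensorProduct.smul_tmul', Algebra.smul_def, mul_comm]
        rw [e]
        exact V.mul_mem_left _ (Ideal.mem_map_of_mem _ hy)
    have hV2 : ∀ a ∈ V, ∀ b ∈ V, a * b = 0 := by
      intro a ha b hb
      have hk : RingHom.ker ρ * RingHom.ker ρ = ⊥ := le_bot_iff.1 (Ideal.mul_le.2 fun y hy z hz => by
        rw [Ideal.mem_bot]; exact hρsq y z hy hz)
      have h : a * b ∈ V * V := Ideal.mul_mem_mul ha hb
      rw [show V * V = ⊥ by
        simp only [V]
        rw [← Ideal.map_mul, hk, Ideal.map_bot], Ideal.mem_bot] at h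
      exact h
    intro x hx
    refine ⟨2, ?_⟩
    have := hV x
    rw [show μ₁ x = 0 from hx, TensorProduct.zero_tmul, sub_zero] at this
    rw [pow_two]
    exact hV2 x this x this
  obtain ⟨EU, hEU⟩ := exists_split_push (S' := L ⊗[T ⧸ mT] (Q ⧸ I)) EL inL
  obtain ⟨EB, hEB⟩ := exists_split_push (S' := L ⊗[T ⧸ mT] (Q ⧸ I)) EQ inQ
  let ψ₁ : C →ₐ[R] (L ⊗[T ⧸ mT] (Q ⧸ I)) ⊗[R] B := (push inQ).comp ψQ
  let ψ₀ : C →ₐ[R] (L ⊗[T ⧸ mT] (Q ⧸ I)) ⊗[R] B := (push ((inL.comp μ).comp inQ)).comp ψQ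
  have h₁ : RespD ψ₁ := hψQD.push inQ
  have h₀ : RespD ψ₀ := hψQD.push _
  have hμψ : (push μ).comp ψ₁ = (push μ).comp ψ₀ := AlgHom.ext fun d => by
    show push μ (push inQ (ψQ d)) = push μ (push ((inL.comp μ).comp inQ) (ψQ d))
    rw [← push_comp', ← push_comp']
    congr 2
    refine AlgHom.ext fun x => ?_
    show μ (inQ x) = μ (inL (μ (inQ x)))
    rw [← AlgHom.comp_apply μ inL, hμL]
    rfl
  have hgl : ∀ n, extHom ψ₁ (EU.e n) = extHom ψ₀ (EU.e n) := fun n =>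
    gl_eq_of_push_eq EB μ hμnil (h₁.isGL (EU.gl n)) (h₀.isGL (EU.gl n)) (by rw [push_extHom, push_extHom, hμψ])
  have heq : ψ₁ = ψ₀ := by
    have : extHom ψ₁ = extHom ψ₀ := AlgHom.toLinearMap_injective (EU.e.ext hgl)
    refine AlgHom.ext fun d => ?_
    have h := DFunLike.congr_fun this ((1 : (L ⊗[T ⧸ mT] (Q ⧸ I))) ⊗ₜ[R] d)
    rwa [extHom_tmul, extHom_tmul, one_smul, one_smul] at h
  -- the coefficients are rigid
  have hrig : ∀ d b, ∃ t : T, EQ.e.repr (ψQ d) b - algebraMap T Q t ∈ I := by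
    intro d b
    set x := EQ.e.repr (ψQ d) b
    have e₁ : EB.e.repr (ψ₁ d) b = inQ x := repr_push EQ EB inQ hEB _ _
    have hEB0 : ∀ n, EB.e n = push ((inL.comp μ).comp inQ) (EQ.e n) := fun n => by
      rw [hEB, hEQ, ← push_comp', ← push_comp']
      refine congrArg (fun h => push (A := B) h (E.e n)) (AlgHom.ext fun t => ?_)
      show inQ (algebraMap T Q t) = inL (μ (inQ (algebraMap T Q t)))
      have hq : inQ (algebraMap T Q t) = algebraMap (T ⧸ mT) (L ⊗[T ⧸ mT] (Q ⧸ I)) (Ideal.Quotient.mk mT t) := by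
        show (1 : L) ⊗ₜ[T ⧸ mT] (algebraMap (T ⧸ mT) (Q ⧸ I) (Ideal.Quotient.mk mT t)) = _
        rw [← Algebra.TensorProduct.includeRight_apply, AlgHom.commutes]
      rw [hq]
      show _ = inL (μ₁ (algebraMap (T ⧸ mT) (L ⊗[T ⧸ mT] (Q ⧸ I)) (Ideal.Quotient.mk mT t)))
      rw [AlgHom.commutes]
      exact ((Algebra.TensorProduct.includeLeft : L →ₐ[T ⧸ mT] L ⊗[T ⧸ mT] (Q ⧸ I)).commutes _).symm
    have e₀ : EB.e.repr (ψ₀ d) b = inL (μ (inQ x)) := repr_push EQ EB _ hEB0 _ _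
    rw [heq] at e₁
    have hx : inQ x = inL (μ (inQ x)) := e₁.symm.trans e₀
    obtain ⟨t, ht⟩ := Ideal.Quotient.mk_surjective (ρ (Ideal.Quotient.mk I x))
    refine ⟨t, Ideal.Quotient.eq.1 ?_⟩
    haveI : Module.Flat (T ⧸ mT) (Q ⧸ I) := inferInstance
    refine Algebra.TensorProduct.includeRight_injective (R := T ⧸ mT) (A := L) (B := Q ⧸ I)
      (RingHom.injective _) ?_
    show inQ x = (1 : L) ⊗ₜ[T ⧸ mT] (algebraMap (T ⧸ mT) (Q ⧸ I) (Ideal.Quotient.mk mT t))
    rw [hx, ← Algebra.TensorProduct.includeRight_apply, AlgHom.commutes, ht]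
    show inL (μ₁ ((1 : L) ⊗ₜ[T ⧸ mT] Ideal.Quotient.mk I x)) = _
    rw [Algebra.TensorProduct.lift_tmul, map_one, one_mul]
    exact (Algebra.TensorProduct.includeLeft : L →ₐ[T ⧸ mT] L ⊗[T ⧸ mT] (Q ⧸ I)).commutes _
  have hsmem : ∀ y ∈ s, y ∈ (algebraMap T T').range := by
    refine mem_range_of_rigid hres s (Finset.finite_toSet _) fun y hy => ?_
    obtain ⟨g, hg, hy'⟩ := Finset.mem_biUnion.1 (Finset.mem_coe.1 hy)
    obtain ⟨b, -, rfl⟩ := Finset.mem_image.1 hy'
    obtain ⟨t, ht⟩ := hrig g b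
    refine ⟨t, ?_⟩
    convert ht using 2
    refine Subtype.ext ?_
    show E'.e.repr (ψ g) b = ιQ (EQ.e.repr (ψQ g) b)
    rw [← repr_push EQ E' ιQ hE'Q, ← AlgHom.comp_apply, hψQ]
  have hQ : ∀ y : Q, (y : T') ∈ (algebraMap T T').range := fun y =>
    (Algebra.adjoin_le (S := (Algebra.ofId T T').range) fun z hz => hsmem z hz) y.2
  rw [← hψQ, AlgHom.comp_apply, repr_push EQ E' ιQ hE'Q]
  exact hQ _

end Groth.Agent.CplHom
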