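import Mathlib.RingTheory.Unramified.LocalStructure
import Mathlib.RingTheory.Unramified.LocalRing
import Mathlib.RingTheory.Nakayama
import Mathlib.RingTheory.Localization.AtPrime.Basic
import Groth.Agent.HenselLib.Local
import Groth.Agent.QfHensFiniteLib.Basic

set_option autoImplicit false

/-!
Elements which are algebraic and infinitesimally rigid over a henselian local ring lie in it.
-/

noncomputable section

universe u

namespace Groth.Agent.CplHom

variable {T T' : Type u} [CommRing T] [HenselianLocalRing T] [IsNoetherianRing T] [CommRing T'] [IsLocalRing T']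
  [Algebra T T']

/-- A finitely generated subalgebra of an extension with trivial residue extension which has no infinitesimal
deformations at the closed point consists of scalars. -/
theorem mem_range_of_rigid [IsLocalHom (algebraMap T T')]
    (hres : ∀ x : T', ∃ t : T, x - algebraMap T T' t ∈ IsLocalRing.maximalIdeal T')
    (s : Set T') (hs : s.Finite)
    (hrig : ∀ x (hx : x ∈ s), ∃ t : T, (⟨x, Algebra.subset_adjoin hx⟩ : Algebra.adjoin T s) - algebraMap T _ t ∈
      (IsLocalRing.maximalIdeal T).map (algebraMap T (Algebra.adjoin T s)) ⊔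
        (IsLocalRing.maximalIdeal T').comap (Algebra.adjoin T s).val ^ 2)
    (x : T') (hx : x ∈ s) : x ∈ (algebraMap T T').range := by
  classical
  set Q := Algebra.adjoin T s
  haveI : Algebra.FiniteType T Q := ⟨(Subalgebra.fg_top _).2 (Subalgebra.fg_adjoin_finset hs.toFinset |> fun h => by
    simpa [Q] using h)⟩
  haveI : IsNoetherianRing Q := Algebra.FiniteType.isNoetherianRing T Q
  let q : Ideal Q := (IsLocalRing.maximalIdeal T').comap Q.val
  haveI hqp : q.IsPrime := Ideal.IsPrime.comap Q.val
  let I : Ideal Q := (IsLocalRing.maximalIdeal T).map (algebraMap T Q) ⊔ q ^ 2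
  have hmq : ∀ t ∈ IsLocalRing.maximalIdeal T, algebraMap T Q t ∈ q := fun t ht => by
    show algebraMap T T' t ∈ IsLocalRing.maximalIdeal T'
    exact fun hu => ht (isUnit_of_map_unit _ _ hu)
  have hIq : I ≤ q := sup_le (Ideal.map_le_iff_le_comap.2 hmq) (Ideal.pow_le_self two_ne_zero)
  -- all elements of the subalgebra are scalars modulo `I`
  have hall : ∀ y : Q, ∃ t : T, y - algebraMap T Q t ∈ I := by
    rintro ⟨y, hy⟩
    refine Algebra.adjoin_induction (R := T) (p := fun y hy => ∃ t : T, (⟨y, hy⟩ : Q) - algebraMap T Q t ∈ I)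
      (fun y hy => hrig y hy) (fun t => ⟨t, by
        rw [show (⟨algebraMap T T' t, _⟩ : Q) = algebraMap T Q t from rfl, sub_self]; exact zero_mem _⟩) ?_ ?_ hy
    · rintro a b ha hb ⟨t, ht⟩ ⟨t', ht'⟩
      refine ⟨t + t', ?_⟩
      have := add_mem ht ht'
      rw [map_add]
      rwa [← add_sub_add_comm] at this
    · rintro a b ha hb ⟨t, ht⟩ ⟨t', ht'⟩
      refine ⟨t * t', ?_⟩
      have := add_mem (I.mul_mem_right (⟨b, hb⟩ : Q) ht) (I.mul_mem_left (algebraMap T Q t) ht')
      rw [map_mul]
      convert this using 1
      rw [sub_mul, mul_sub, sub_add_sub_cancel]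
      rfl
  have hq : q ≤ I := fun y hy => by
    obtain ⟨t, ht⟩ := hall y
    have h1 : algebraMap T Q t ∈ q := by
      have := q.sub_mem hy (hIq ht)
      rwa [sub_sub_cancel] at this
    have h2 : t ∈ IsLocalRing.maximalIdeal T := fun hu =>
      hqp.ne_top (Ideal.eq_top_of_isUnit_mem _ h1 (hu.map _))
    have := add_mem ht (Ideal.mem_sup_left (Ideal.mem_map_of_mem _ h2) : algebraMap T Q t ∈ I)
    rwa [sub_add_cancel] at this
  let L := Localization.AtPrime q
  haveI : IsLocalHom (algebraMap T L) := ⟨fun t ht => by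
    by_contra hn
    have h1 : algebraMap T Q t ∈ q := hmq t hn
    rw [IsScalarTower.algebraMap_apply T Q L] at ht
    exact (IsLocalization.AtPrime.isUnit_to_map_iff L q _).1 ht h1⟩
  have hmap : (IsLocalRing.maximalIdeal T).map (algebraMap T L) = IsLocalRing.maximalIdeal L := by
    refine le_antisymm (((IsLocalRing.local_hom_TFAE (algebraMap T L)).out 0 2).mp ‹_›) ?_
    refine Submodule.le_of_le_smul_of_le_jacobson_bot (IsNoetherian.noetherian _)
      (IsLocalRing.maximalIdeal_le_jacobson _) ?_
    rw [smul_eq_mul, ← pow_two]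
    conv_lhs => rw [← Localization.AtPrime.map_eq_maximalIdeal]
    refine (Ideal.map_mono hq).trans ?_
    rw [Ideal.map_sup, Ideal.map_map, ← IsScalarTower.algebraMap_eq, Ideal.map_pow,
      Localization.AtPrime.map_eq_maximalIdeal]
  haveI : Algebra.IsSeparable (IsLocalRing.ResidueField T) (IsLocalRing.ResidueField L) := by
    refine ⟨fun z => ?_⟩
    obtain ⟨z, rfl⟩ := IsLocalRing.residue_surjective z
    obtain ⟨a, b, rfl⟩ := IsLocalization.exists_mk'_eq q.primeCompl z
    obtain ⟨t, ht⟩ := hall a
    obtain ⟨t', ht'⟩ := hall b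
    have hu : IsUnit t' := by
      by_contra hn
      have := q.add_mem (hIq ht') (hmq t' hn)
      rw [sub_add_cancel] at this
      exact b.2 this
    obtain ⟨v, hv⟩ := hu
    have e : IsLocalRing.residue L (IsLocalization.mk' L a b) =
        algebraMap (IsLocalRing.ResidueField T) (IsLocalRing.ResidueField L)
          (IsLocalRing.residue T (t * ↑v⁻¹)) := by
      have key : ∀ (y : Q) (r : T), y - algebraMap T Q r ∈ I →
          IsLocalRing.residue L (algebraMap Q L y) = IsLocalRing.residue L (algebraMap T L r) := fun y r hyr => by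
        rw [← sub_eq_zero, ← map_sub, IsScalarTower.algebraMap_apply T Q L, ← map_sub,
          IsLocalRing.residue_eq_zero_iff, ← Localization.AtPrime.map_eq_maximalIdeal]
        exact Ideal.mem_map_of_mem _ (hIq hyr)
      have hb0 : IsLocalRing.residue L (algebraMap Q L b) ≠ 0 := by
        rw [ne_eq, IsLocalRing.residue_eq_zero_iff]
        exact fun h => h (IsLocalization.map_units L b)
      apply mul_right_cancel₀ hb0
      rw [← map_mul, IsLocalization.mk'_spec, key a t ht, key b t' ht']
      rw [show algebraMap (IsLocalRing.ResidueField T) (IsLocalRing.ResidueField L)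
          (IsLocalRing.residue T (t * ↑v⁻¹)) = IsLocalRing.residue L (algebraMap T L (t * ↑v⁻¹)) from rfl,
        ← map_mul, ← map_mul, ← hv, mul_assoc, Units.inv_mul, mul_one]
    rw [e]
    exact isSeparable_algebraMap _
  haveI : Algebra.IsUnramifiedAt T q := Algebra.FormallyUnramified.of_map_maximalIdeal hmap
  obtain ⟨f, hfq, P, φ, hφ⟩ := Algebra.IsUnramifiedAt.exists_hasStandardEtaleSurjectionOn (R := T) q
  have hfu : IsUnit (Q.val f) := by
    by_contra hn
    exact hfq hn
  let ψ : Localization.Away f →ₐ[T] T' :=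
    { IsLocalization.Away.lift (g := (Q.val : Q →+* T')) f hfu with
      commutes' := fun t => by
        show IsLocalization.Away.lift f hfu (algebraMap T (Localization.Away f) t) = _
        rw [IsScalarTower.algebraMap_apply T Q (Localization.Away f), IsLocalization.Away.lift_eq]
        rfl }
  let g₁ : P.Ring →ₐ[T] T' := ψ.comp φ
  have hsurj : Function.Surjective (IsLocalRing.ResidueField.map (algebraMap T T')) := fun z => by
    obtain ⟨z, rfl⟩ := IsLocalRing.residue_surjective z
    obtain ⟨t, ht⟩ := hres z
    refine ⟨IsLocalRing.residue T t, ?_⟩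
    rw [IsLocalRing.ResidueField.map_residue, eq_comm, ← sub_eq_zero, ← map_sub, IsLocalRing.residue_eq_zero_iff]
    exact ht
  let er := RingEquiv.ofBijective (IsLocalRing.ResidueField.map (algebraMap T T'))
    ⟨RingHom.injective _, hsurj⟩
  let θ : P.Ring →+* IsLocalRing.ResidueField T :=
    er.symm.toRingHom.comp ((IsLocalRing.residue T').comp g₁.toRingHom)
  have hθ : θ.comp (algebraMap T P.Ring) = (IsLocalRing.residue T).comp (algebraMap T T) := by
    refine RingHom.ext fun t => er.injective ?_
    show er (er.symm (IsLocalRing.residue T' (g₁ (algebraMap T P.Ring t)))) = er (IsLocalRing.residue T t)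
    rw [RingEquiv.apply_symm_apply, AlgHom.commutes]
    exact (IsLocalRing.ResidueField.map_residue _ _).symm
  obtain ⟨σ, hσ, -⟩ := HenselLib.existsUnique_algHom θ hθ
  have hg : g₁ = (Algebra.ofId T T').comp σ := by
    refine HenselLib.algHom_ext_of_sub_mem (IsLocalRing.maximalIdeal_le_jacobson ⊥) _ _ fun p => ?_
    rw [← IsLocalRing.residue_eq_zero_iff, map_sub, sub_eq_zero]
    show IsLocalRing.residue T' (g₁ p) = IsLocalRing.residue T' (algebraMap T T' (σ p))
    rw [← IsLocalRing.ResidueField.map_residue (algebraMap T T'), hσ]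
    exact (RingEquiv.apply_symm_apply er _).symm
  obtain ⟨p, hp⟩ := hφ (algebraMap Q (Localization.Away f) ⟨x, Algebra.subset_adjoin hx⟩)
  refine ⟨σ p, ?_⟩
  have h := DFunLike.congr_fun hg p
  rw [AlgHom.comp_apply, hp] at h
  refine h.symm.trans ?_
  show IsLocalization.Away.lift f hfu (algebraMap Q (Localization.Away f) _) = _
  rw [IsLocalization.Away.lift_eq]
  rfl

end Groth.Agent.CplHom
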