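import Groth.Agent.CplHomLib.Coord
import Groth.Agent.QIsoLib.Henselian
import Mathlib.RingTheory.Bialgebra.Quotient
import Mathlib.RingTheory.AdicCompletion.LocalRing
import Mathlib.RingTheory.AdicCompletion.AsTensorProduct
import Mathlib.RingTheory.Flat.FaithfullyFlat.Algebra

set_option autoImplicit false

/-!
Homomorphisms from groups of multiplicative type over a henselian local ring and over its completion.
-/

noncomputable section

universe u w

open scoped TensorProduct
open Groth.Agent.TorusField Groth.Agent.DiagHopf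

namespace Groth.Agent.CplHom

variable {R : Type u} [CommRing R]

/-- The base change of a local ring along a finite unramified local algebra with trivial residue extension is local. -/
theorem isLocalRing_tensor [IsLocalRing R] {T : Type u} [CommRing T] [IsLocalRing T] [Algebra R T] [Module.Finite R T]
    [Module.Flat R T] (hmT : (IsLocalRing.maximalIdeal R).map (algebraMap R T) = IsLocalRing.maximalIdeal T)
    {R' : Type u} [CommRing R'] [IsLocalRing R'] [Algebra R R'] [Nontrivial (R' ⊗[R] T)]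
    (hm : IsLocalRing.maximalIdeal R' = (IsLocalRing.maximalIdeal R).map (algebraMap R R'))
    (hres : ∀ x : R', ∃ r : R, x - algebraMap R R' r ∈ IsLocalRing.maximalIdeal R') :
    ∃ _ : IsLocalRing (R' ⊗[R] T),
      (∀ t : T, t ∈ IsLocalRing.maximalIdeal T → (1 : R') ⊗ₜ[R] t ∈ IsLocalRing.maximalIdeal (R' ⊗[R] T)) ∧
      ∀ y : R' ⊗[R] T, ∃ t : T, y - (1 : R') ⊗ₜ[R] t ∈ IsLocalRing.maximalIdeal (R' ⊗[R] T) := by
  let 𝔫 : Ideal (R' ⊗[R] T) := (IsLocalRing.maximalIdeal R').map (algebraMap R' (R' ⊗[R] T))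
  have hjac : 𝔫 ≤ Ideal.jacobson ⊥ := by
    refine le_sInf fun P hP => ?_
    haveI : P.IsMaximal := hP.2
    rw [Ideal.map_le_iff_le_comap]
    exact le_of_eq (IsLocalRing.eq_maximalIdeal (Ideal.isMaximal_comap_of_isIntegral_of_isMaximal (R := R') P)).symm
  have htop : 𝔫 ≠ ⊤ := fun h => by
    obtain ⟨P, hP⟩ := Ideal.exists_maximal (R' ⊗[R] T)
    have := hjac.trans (sInf_le ⟨bot_le, hP⟩)
    rw [h] at this
    exact hP.ne_top (top_le_iff.1 this)
  have hT : ∀ t : T, t ∈ IsLocalRing.maximalIdeal T → (1 : R') ⊗ₜ[R] t ∈ 𝔫 := by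
    intro t ht
    rw [← hmT] at ht
    refine (Ideal.map_le_iff_le_comap.2 fun r hr => ?_ :
      (IsLocalRing.maximalIdeal R).map (algebraMap R T) ≤
        𝔫.comap (Algebra.TensorProduct.includeRight : T →ₐ[R] R' ⊗[R] T)) ht
    show (Algebra.TensorProduct.includeRight : T →ₐ[R] R' ⊗[R] T) (algebraMap R T r) ∈ 𝔫
    rw [AlgHom.commutes, IsScalarTower.algebraMap_apply R R' (R' ⊗[R] T)]
    exact Ideal.mem_map_of_mem _ (hm.symm ▸ Ideal.mem_map_of_mem _ hr)
  have hsurj : ∀ y : R' ⊗[R] T, ∃ t : T, y - (1 : R') ⊗ₜ[R] t ∈ 𝔫 := by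
    intro y
    induction y using TensorProduct.induction_on with
    | zero => exact ⟨0, by simp⟩
    | add a b ha hb =>
      obtain ⟨t, ht⟩ := ha
      obtain ⟨t', ht'⟩ := hb
      refine ⟨t + t', ?_⟩
      rw [TensorProduct.tmul_add, add_sub_add_comm]
      exact add_mem ht ht'
    | tmul x t =>
      obtain ⟨r, hr⟩ := hres x
      refine ⟨r • t, ?_⟩
      rw [TensorProduct.tmul_smul, TensorProduct.smul_tmul', ← TensorProduct.sub_tmul, ← Algebra.algebraMap_eq_smul_one,
        show (x - algebraMap R R' r) ⊗ₜ[R] t = algebraMap R' (R' ⊗[R] T) (x - algebraMap R R' r) * ((1 : R') ⊗ₜ[R] t) by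
          simp [Algebra.TensorProduct.algebraMap_apply, Algebra.TensorProduct.tmul_mul_tmul]]
      exact Ideal.mul_mem_right _ _ (Ideal.mem_map_of_mem _ hr)
  have hmax : 𝔫.IsMaximal := by
    refine Ideal.Quotient.maximal_of_isField _ ⟨⟨0, 1, fun h => htop ?_⟩, mul_comm, fun {a} ha => ?_⟩
    · exact (Ideal.eq_top_iff_one _).2 (Ideal.Quotient.eq_zero_iff_mem.1 h.symm)
    · obtain ⟨a, rfl⟩ := Ideal.Quotient.mk_surjective a
      obtain ⟨t, ht⟩ := hsurj a
      have hu : IsUnit t := by
        by_contra hu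
        refine ha (Ideal.Quotient.eq_zero_iff_mem.2 ?_)
        have := add_mem ht (hT t hu)
        rwa [sub_add_cancel] at this
      obtain ⟨v, rfl⟩ := hu
      refine ⟨Ideal.Quotient.mk 𝔫 ((1 : R') ⊗ₜ[R] (↑v⁻¹ : T)), ?_⟩
      rw [Ideal.Quotient.eq.2 ht, ← map_mul, Algebra.TensorProduct.tmul_mul_tmul, Units.mul_inv, mul_one,
        ← Algebra.TensorProduct.one_def, map_one]
  have huniq : ∀ P : Ideal (R' ⊗[R] T), P.IsMaximal → P = 𝔫 := fun P hP =>
    (hmax.eq_of_le hP.ne_top (hjac.trans (sInf_le ⟨bot_le, hP⟩))).symm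
  haveI hloc : IsLocalRing (R' ⊗[R] T) := IsLocalRing.of_unique_max_ideal ⟨𝔫, hmax, huniq⟩
  have he : IsLocalRing.maximalIdeal (R' ⊗[R] T) = 𝔫 := huniq _ (IsLocalRing.maximalIdeal.isMaximal _)
  exact ⟨hloc, he.symm ▸ hT, he.symm ▸ hsurj⟩

/-- A finite flat unramified local algebra splitting a group of multiplicative type. -/
theorem exists_local_split [HenselianLocalRing R] {A : Type u} [CommRing A] [HopfAlgebra R A]
    (hft : Algebra.FiniteType R A) (h : SGA3b.IsMultType R A) :
    ∃ (T : Type u) (_ : CommRing T) (_ : Algebra R T) (_ : HenselianLocalRing T) (M : Type u) (_ : AddCommGroup M),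
      Module.Finite R T ∧ Module.FaithfullyFlat R T ∧ Algebra.FormallyUnramified R T ∧
      (IsLocalRing.maximalIdeal R).map (algebraMap R T) = IsLocalRing.maximalIdeal T ∧ Nonempty (Split R A M T) := by
  classical
  obtain ⟨S, _, _, hSet, hSfin, hSff, N, _, ⟨e⟩⟩ := Groth.Agent.QIso.isIsotrivial_of_henselian hft h
  haveI := hSfin
  haveI := hSff
  haveI := hSet
  obtain ⟨ES⟩ := exists_split_of_bialgEquiv e
  haveI : Nontrivial S := by
    by_contra h
    rw [not_nontrivial_iff_subsingleton] at h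
    exact Module.FaithfullyFlat.submodule_ne_top (R := R) (M := S) (IsLocalRing.maximalIdeal.isMaximal R)
      (Subsingleton.elim _ _)
  obtain ⟨ι, _, L, _, hL, ⟨eL⟩⟩ := HenselLib.exists_pi_local (R := R) S
  obtain ⟨i⟩ : Nonempty ι := by
    by_contra hne
    rw [not_nonempty_iff] at hne
    exact not_subsingleton S eL.toEquiv.subsingleton
  letI : Algebra R (L i) := (((Pi.evalRingHom L i).comp eL.toRingHom).comp (algebraMap R S)).toAlgebra
  let π : S →ₐ[R] L i := { (Pi.evalRingHom L i).comp eL.toRingHom with commutes' := fun r => rfl }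
  have hπ : Function.Surjective π := (Function.surjective_eval i).comp eL.surjective
  haveI : Module.Finite R (L i) := Module.Finite.of_surjective π.toLinearMap hπ
  haveI := hL i
  let σ : L i →ₗ[R] S :=
    { toFun := fun x => eL.symm (Pi.single i x)
      map_add' := fun x y => by rw [Pi.single_add, map_add]
      map_smul' := fun r x => eL.injective (by
        rw [RingHom.id_apply, RingEquiv.apply_symm_apply, Algebra.smul_def, Algebra.smul_def, map_mul,
          RingEquiv.apply_symm_apply]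
        funext j
        by_cases hj : j = i
        · subst hj
          rw [Pi.mul_apply, Pi.single_eq_same, Pi.single_eq_same]
          rfl
        · simp [Pi.single_eq_of_ne hj]) }
  haveI : Module.Flat R (L i) := Module.Flat.of_retract σ π.toLinearMap (LinearMap.ext fun x => by
    show eL (eL.symm (Pi.single i x)) i = x
    rw [RingEquiv.apply_symm_apply, Pi.single_eq_same])
  haveI : IsLocalHom (algebraMap R (L i)) := by
    refine ((IsLocalRing.local_hom_TFAE (algebraMap R (L i))).out 0 4).mpr ?_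
    exact IsLocalRing.eq_maximalIdeal
      (Ideal.isMaximal_comap_of_isIntegral_of_isMaximal (R := R) (IsLocalRing.maximalIdeal (L i)))
  haveI : Algebra.FormallyUnramified R (L i) := Algebra.FormallyUnramified.of_surjective π hπ
  haveI : HenselianLocalRing (L i) := (QfHensFiniteLib.henselianLocalRing_of_finite (A := R) (L i)).1
  obtain ⟨E, -⟩ := exists_split_push ES π
  exact ⟨L i, inferInstance, inferInstance, inferInstance, Additive N, inferInstance, inferInstance,
    Module.FaithfullyFlat.of_flat_of_isLocalHom, inferInstance, Algebra.FormallyUnramified.map_maximalIdeal, ⟨E⟩⟩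

theorem baseChange_bijective [HenselianLocalRing R] [IsNoetherianRing R]
    {B : Type u} [CommRing B] [HopfAlgebra R B] (hGft : Algebra.FiniteType R B) (hG : SGA3b.IsMultType R B)
    {C : Type u} [CommRing C] [HopfAlgebra R C] (hHft : Algebra.FiniteType R C)
    (hs : SGA3b.IsMultType (IsLocalRing.ResidueField R) (IsLocalRing.ResidueField R ⊗[R] C))
    {R' : Type u} [CommRing R'] [IsLocalRing R'] [Algebra R R'] [Module.FaithfullyFlat R R']
    (hm : IsLocalRing.maximalIdeal R' = (IsLocalRing.maximalIdeal R).map (algebraMap R R'))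
    (hres : ∀ x : R', ∃ r : R, x - algebraMap R R' r ∈ IsLocalRing.maximalIdeal R') :
    (∀ φ ψ : C →ₐc[R] B, (∀ c : C, (1 : R') ⊗ₜ[R] (φ c) = (1 : R') ⊗ₜ[R] (ψ c)) → φ = ψ) ∧
    (∀ φ' : (R' ⊗[R] C) →ₐc[R'] (R' ⊗[R] B),
      ∃ φ : C →ₐc[R] B, ∀ c : C, φ' ((1 : R') ⊗ₜ[R] c) = (1 : R') ⊗ₜ[R] (φ c)) := by
  classical
  have hinjB : Function.Injective fun b : B => (1 : R') ⊗ₜ[R] b :=
    Module.FaithfullyFlat.tensorProduct_mk_injective (A := R) (B := R') B
  refine ⟨fun φ ψ h => BialgHom.ext fun c => hinjB (h c), fun φ' => ?_⟩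
  haveI := hGft
  haveI := hHft
  obtain ⟨T, _, _, _, M, _, hTfin, hTff, -, hmT, ⟨E⟩⟩ := exists_local_split hGft hG
  haveI := hTfin
  haveI := hTff
  haveI : IsNoetherianRing T := isNoetherian_of_isNoetherianRing_of_finite R T |> fun h =>
    isNoetherianRing_iff.2 (isNoetherian_of_tower R h)
  haveI : AddGroup.FG M := AddGroup.fg_iff_addMonoid_fg.2 (fg_of_split' E)
  haveI : Module.Projective R B := Groth.Agent.QIso.flat_of_split E
  haveI : Nontrivial (R' ⊗[R] T) :=
    (Module.FaithfullyFlat.tensorProduct_mk_injective (A := R) (B := R') T).nontrivial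
  obtain ⟨hloc, hmax, hres'⟩ := isLocalRing_tensor (T := T) hmT hm hres
  letI : Algebra T (R' ⊗[R] T) := Algebra.TensorProduct.rightAlgebra
  haveI : IsScalarTower R T (R' ⊗[R] T) := IsScalarTower.of_algebraMap_eq fun r =>
    ((Algebra.TensorProduct.includeRight : T →ₐ[R] R' ⊗[R] T).commutes r).symm
  have halg : ∀ t : T, algebraMap T (R' ⊗[R] T) t = (1 : R') ⊗ₜ[R] t := fun _ => rfl
  haveI : IsLocalHom (algebraMap T (R' ⊗[R] T)) := ⟨fun t ht => by
    by_contra hn
    exact hmax t hn (by rwa [halg] at ht)⟩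
  -- the splitting of the closed fibre of the target
  obtain ⟨L₀, _, _, N, _, ⟨E₀⟩⟩ := exists_field_split hs
  letI : Algebra R L₀ := ((algebraMap (IsLocalRing.ResidueField R) L₀).comp
    (algebraMap R (IsLocalRing.ResidueField R))).toAlgebra
  haveI : IsScalarTower R (IsLocalRing.ResidueField R) L₀ := IsScalarTower.of_algebraMap_eq fun _ => rfl
  obtain ⟨E₁⟩ := exists_split_transfer E₀
  letI : Field (T ⧸ IsLocalRing.maximalIdeal T) := Ideal.Quotient.field _
  haveI : IsLocalHom (algebraMap R (T ⧸ IsLocalRing.maximalIdeal T)) := ⟨fun r hr => by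
    by_contra hn
    have h1 : algebraMap R T r ∈ IsLocalRing.maximalIdeal T := hmT ▸ Ideal.mem_map_of_mem _ hn
    rw [IsScalarTower.algebraMap_apply R T (T ⧸ IsLocalRing.maximalIdeal T),
      show algebraMap T (T ⧸ IsLocalRing.maximalIdeal T) (algebraMap R T r) = 0 from
        Ideal.Quotient.eq_zero_iff_mem.2 h1] at hr
    exact not_isUnit_zero hr⟩
  let ak : IsLocalRing.ResidueField R →ₐ[R] T ⧸ IsLocalRing.maximalIdeal T :=
    { IsLocalRing.ResidueField.lift (algebraMap R (T ⧸ IsLocalRing.maximalIdeal T)) with commutes' := fun r => rfl }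
  obtain ⟨L, _, _, j₁, j₂, -⟩ := Groth.Agent.QIso.exists_join ak
    (IsScalarTower.toAlgHom R (IsLocalRing.ResidueField R) L₀)
  obtain ⟨EL, -⟩ := exists_split_push E₁ j₂
  let ι' : R' →ₐ[R] R' ⊗[R] T := Algebra.TensorProduct.includeLeft
  let ιT : T →ₐ[R] R' ⊗[R] T := IsScalarTower.toAlgHom R T (R' ⊗[R] T)
  obtain ⟨E', hE'⟩ := exists_split_push E ιT
  let incl : C →ₐ[R] R' ⊗[R] B :=
    ((φ' : R' ⊗[R] C →ₐ[R'] R' ⊗[R] B).restrictScalars R).comp Algebra.TensorProduct.includeRight
  -- the coefficients lie in `T`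
  have hcoef : ∀ c a, E'.e.repr (push ι' (incl c)) a ∈ (algebraMap T (R' ⊗[R] T)).range := by
    intro c a
    set z := push ι' (incl c)
    obtain ⟨n, hn, hsep⟩ := Groth.Agent.QIso.exists_sep (insert a (E'.e.repr z).support)
    haveI hJ : (SGA3b.torsionIdeal R B n).IsHopfIdeal R := Groth.Agent.QIso.isHopfIdeal_torsion E n
    let J := SGA3b.torsionIdeal R B n
    let H := (nsmulAddMonoidHom n : M →+ M).range
    obtain ⟨En, hEn⟩ := exists_split_torsion E n J rfl
    haveI : Module.Projective R (B ⧸ J) := Groth.Agent.QIso.flat_of_split En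
    obtain ⟨En', hEn'⟩ := exists_split_push En ιT
    let Φ : R' ⊗[R] C →ₐc[R'] R' ⊗[R] (B ⧸ J) :=
      (Bialgebra.TensorProduct.map (BialgHom.id R' R') (Bialgebra.Quotient.mkBialgHom J)).comp φ'
    let ψ : C →ₐ[R] (R' ⊗[R] T) ⊗[R] (B ⧸ J) :=
      (push ι').comp (((Φ : R' ⊗[R] C →ₐ[R'] R' ⊗[R] (B ⧸ J)).restrictScalars R).comp
        Algebra.TensorProduct.includeRight)
    have hψ : RespD ψ := (respD_of_bialgHom Φ).push ι'
    have hq : ∀ {S S' : Type u} [CommRing S] [Algebra R S] [CommRing S'] [Algebra R S'] (f : S →ₐ[R] S')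
        (y : S ⊗[R] B), quotExt S' J (push f y) = push f (quotExt S J y) := by
      intro S S' _ _ _ _ f y
      induction y using TensorProduct.induction_on with
      | zero => simp
      | add p q hp hq => simp only [map_add, hp, hq]
      | tmul p q => simp [quotExt, push]
    have hψc : ψ c = quotExt (R' ⊗[R] T) J z := (hq ι' (incl c)).symm
    have hmem := repr_mem_range (T := T) (T' := R' ⊗[R] T)
      (fun y => by simpa only [halg] using hres' y) EL j₁ En En' hEn' ψ hψ c (a : M ⧸ H)
    have hbasis : ∀ m : M, En'.e (m : M ⧸ H) = quotExt (R' ⊗[R] T) J (E'.e m) := fun m => by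
      rw [hEn', hEn, hE', hq]
    have hrepr : En'.e.repr (quotExt (R' ⊗[R] T) J z) =
        (E'.e.repr z).mapDomain (fun m : M => (m : M ⧸ H)) := by
      let Φl : (R' ⊗[R] T) ⊗[R] B →ₗ[R' ⊗[R] T] (M ⧸ H) →₀ (R' ⊗[R] T) :=
        En'.e.repr.toLinearMap ∘ₗ (quotExt (R' ⊗[R] T) J).toLinearMap
      have : Φl = (Finsupp.lmapDomain _ _ fun m : M => (m : M ⧸ H)) ∘ₗ E'.e.repr.toLinearMap :=
        E'.e.ext fun m => by
          show En'.e.repr (quotExt (R' ⊗[R] T) J (E'.e m)) = Finsupp.mapDomain _ (E'.e.repr (E'.e m))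
          rw [← hbasis, Module.Basis.repr_self, Module.Basis.repr_self, Finsupp.mapDomain_single]
      exact LinearMap.congr_fun this z
    rw [hψc, hrepr] at hmem
    rwa [Finsupp.mapDomain_apply' (↑(insert a (E'.e.repr z).support) : Set M) _
      (by intro x hx; exact Finset.mem_coe.2 (Finset.mem_insert_of_mem hx))
      (fun x hx y hy hxy => hsep x hx y hy hxy) (Finset.mem_coe.2 (Finset.mem_insert_self _ _))] at hmem
  have hdesc : ∀ c, ∃ b : B, (1 : R') ⊗ₜ[R] b = incl c := by
    intro c
    refine exists_of_coface_eq ?_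
    choose t ht using fun a => hcoef c a
    let zT : T ⊗[R] B := ∑ a ∈ (E'.e.repr (push ι' (incl c))).support, t a • E.e a
    have hzT : push ιT zT = push ι' (incl c) := by
      conv_rhs => rw [← E'.e.linearCombination_repr (push ι' (incl c)), Finsupp.linearCombination_apply, Finsupp.sum]
      rw [map_sum]
      refine Finset.sum_congr rfl fun a _ => ?_
      rw [push_smul, ← hE', ← ht a]
      rfl
    let j : R' ⊗[R] R' →ₐ[R] (R' ⊗[R] R') ⊗[R] T := Algebra.TensorProduct.includeLeft
    have hj : Function.Injective j :=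
      Algebra.TensorProduct.includeLeft_injective (S := R)
        (FaithfulSMul.algebraMap_injective R T)
    have hjB : Function.Injective (push (A := B) j) :=
      Module.Flat.rTensor_preserves_injective_linearMap (M := B) j.toLinearMap hj
    apply hjB
    have key : ∀ p : R' →ₐ[R] R' ⊗[R] R',
        push (A := B) j (Algebra.TensorProduct.map p (AlgHom.id R B) (incl c)) =
          push (Algebra.TensorProduct.includeRight : T →ₐ[R] (R' ⊗[R] R') ⊗[R] T) zT := by
      intro p
      show push j (push p (incl c)) = _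
      rw [← push_comp', show j.comp p = (Algebra.TensorProduct.map p (AlgHom.id R T)).comp ι' from
        AlgHom.ext fun x => by simp [j, ι'], push_comp', ← hzT, ← push_comp']
      refine congrArg (fun h => push (A := B) h zT) (AlgHom.ext fun x => ?_)
      show Algebra.TensorProduct.map p (AlgHom.id R T) (algebraMap T (R' ⊗[R] T) x) = _
      simp [halg, Algebra.TensorProduct.one_def]
    rw [key, key]
  let ιB : B →ₐ[R] R' ⊗[R] B := Algebra.TensorProduct.includeRight
  let φ₀ : C →ₐ[R] B := (AlgEquiv.ofInjective ιB hinjB).symm.toAlgHom.comp (incl.codRestrict _ fun c => hdesc c)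
  have hφ₀ : ∀ c, (1 : R') ⊗ₜ[R] φ₀ c = incl c := fun c =>
    congrArg Subtype.val ((AlgEquiv.ofInjective ιB hinjB).apply_symm_apply (incl.codRestrict _ (fun c => hdesc c) c))
  have hD : RespD incl := respD_of_bialgHom φ'
  refine ⟨BialgHom.ofAlgHom φ₀ (AlgHom.ext fun c => ?_) (AlgHom.ext fun c => ?_), fun c => (hφ₀ c).symm⟩
  · have h := hD.2 c
    rw [← hφ₀, ev1, Algebra.TensorProduct.lift_tmul, map_one, one_mul] at h
    exact FaithfulSMul.algebraMap_injective R R' h
  · refine Module.FaithfullyFlat.tensorProduct_mk_injective (A := R) (B := R') (B ⊗[R] B) ?_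
    show (1 : R') ⊗ₜ[R] Algebra.TensorProduct.map φ₀ φ₀ (Bialgebra.comulAlgHom R C c) =
      (1 : R') ⊗ₜ[R] Bialgebra.comulAlgHom R B (φ₀ c)
    have h := hD.1 c
    rw [← hφ₀, D, Algebra.TensorProduct.map_tmul, AlgHom.id_apply] at h
    rw [h]
    generalize Bialgebra.comulAlgHom R C c = z
    induction z using TensorProduct.induction_on with
    | zero => simp
    | add p q hp hq => simp only [map_add, TensorProduct.tmul_add, hp, hq]
    | tmul p q =>
      rw [pairMap_tmul, ← hφ₀, ← hφ₀]
      simp [J₁, J₂]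

end Groth.Agent.CplHom
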